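import Cfsg.Agent.Lib.CosetEnum.Defs

/-! Generated table data. -/

set_option autoImplicit false
set_option maxRecDepth 20000

namespace Cfsg.Lib.J4Pres.Lvl0

open CosetEnum (Tab)

/-- Closing facts. -/
def tabZ : Tab :=
  (.node 1 (.leaf 0x1200000000000000000e00000000000000001100000000000000031c00000000000000038400000000000000000d00000000000000038400000000000000031000000000000000030700000000000000034b00000000000000000c00000000000000001000000000000000000b00000000000000033c00000000000000030700000000000000000f0000000000000002fc00000000000000031c00000000000000000a00000000000000000e0000000000000000090000000000000003100000000000000002fc00000000000000000d00000000000000000c00000000000000000800000000000000000b0000000000000002d300000000000000000a0000000000000000070000000000000000090000000000000002c400000000000000023c00000000000000000600000000000000023c00000000000000027400000000000000023f00000000000000000500000000000000023f00000000000000025e0000000000000002580000000000000002d30000000000000000040000000000000000080000000000000000030000000000000002c400000000000000025800000000000000000700000000000000024900000000000000027400000000000000000200000000000000000600000000000000000100000000000000025e000000000000000249000000000000000005000000000000000004000000000000000000000000000000000003000000000000000242000000000000000002000000000000000242000000000000000001000000000000000000) (.leaf 0x23a00000000000000001600000000000000023a0000000000000003bc00000000000000023b00000000000000001500000000000000023b00000000000000032700000000000000037300000000000000036000000000000000001400000000000000023e00000000000000001300000000000000023e0000000000000003730000000000000003600000000000000003bb0000000000000003bc0000000000000000120000000000000000160000000000000000110000000000000003270000000000000003bb00000000000000001500000000000000023d00000000000000001000000000000000023d00000000000000034b00000000000000001400000000000000000f00000000000000001300000000000000033c))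

end Cfsg.Lib.J4Pres.Lvl0
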