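import Cfsg.Agent.Lib.CosetEnum.Signed.Defs
import Cfsg.Agent.Lib.J4Pres.Defs
import Cfsg.Agent.Lib.J4Pres.Lvl0.TabF
import Cfsg.Agent.Lib.J4Pres.Lvl0.TabC
import Cfsg.Agent.Lib.J4Pres.Lvl0.TabZ
import Cfsg.Agent.Lib.J4Pres.Lvl0.TabP

/-! Generated certificate. -/

set_option autoImplicit false
set_option maxRecDepth 20000

namespace Cfsg.Lib.J4Pres.Lvl0

open CosetEnum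

/-- The relators in use. -/
def relWords : List (List Nat) :=
  [[0, 0],
    [1, 1, 1],
    [0, 1, 0, 1, 0, 1, 0, 1, 0, 1, 0, 1, 0, 1, 0, 1, 0, 1, 0, 1, 0, 1, 0, 1, 0, 1, 0, 1, 0, 1, 0, 1, 0, 1, 0, 1, 0, 1, 0, 1, 0, 1, 0, 1, 0, 1],
    [3, 0, 1, 2, 3, 0, 1, 2, 3, 0, 1, 2, 3, 0, 1, 2, 3, 0, 1, 2, 3, 0, 1, 2, 3, 0, 1, 2, 3, 0, 1, 2, 3, 0, 1, 2, 3, 0, 1, 2, 3, 0, 1, 2, 3, 0, 1, 2],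
    [3, 2, 3, 0, 1, 0, 1, 2, 3, 2, 3, 0, 1, 0, 1, 2, 3, 2, 3, 0, 1, 0, 1, 2, 3, 2, 3, 0, 1, 0, 1, 2, 3, 2, 3, 0, 1, 0, 1, 2],
    [1, 0, 3, 0, 1, 0, 3, 0, 1, 0, 1, 0, 3, 0, 1, 0, 3, 0, 1, 0, 3, 0, 1, 0, 1, 0, 3, 0, 1, 0, 3, 0, 1, 0, 3, 0, 1, 0, 1, 0, 3, 0, 1, 0, 3, 0, 1, 0, 3, 0, 1, 0, 1, 0, 3, 0],
    [0, 3, 0, 3, 0, 1, 0, 3, 0, 3, 0, 1, 0, 1, 0, 3, 0, 1, 0, 1, 0, 3, 0, 1, 0, 1, 0, 3, 0, 1, 0, 3, 0, 3, 0, 1],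
    [0, 0],
    [1, 1, 1],
    [0, 1, 0, 1, 0, 1, 0, 1, 0, 1, 0, 1, 0, 1, 0, 1, 0, 1, 0, 1, 0, 1, 0, 1, 0, 1, 0, 1, 0, 1, 0, 1, 0, 1, 0, 1, 0, 1, 0, 1, 0, 1, 0, 1, 0, 1],
    [2, 3, 0, 1, 2, 3, 0, 1, 2, 3, 0, 1, 2, 3, 0, 1, 2, 3, 0, 1, 2, 3, 0, 1, 2, 3, 0, 1, 2, 3, 0, 1, 2, 3, 0, 1, 2, 3, 0, 1, 2, 3, 0, 1, 2, 3, 0, 1],
    [2, 3, 2, 3, 0, 1, 0, 1, 2, 3, 2, 3, 0, 1, 0, 1, 2, 3, 2, 3, 0, 1, 0, 1, 2, 3, 2, 3, 0, 1, 0, 1, 2, 3, 2, 3, 0, 1, 0, 1],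
    [0, 1, 0, 1, 0, 3, 0, 1, 0, 3, 0, 1, 0, 3, 0, 1, 0, 1, 0, 3, 0, 1, 0, 3, 0, 1, 0, 3, 0, 1, 0, 1, 0, 3, 0, 1, 0, 3, 0, 1, 0, 3, 0, 1, 0, 1, 0, 3, 0, 1, 0, 3, 0, 1, 0, 3],
    [0, 1, 0, 1, 0, 3, 0, 1, 0, 1, 0, 3, 0, 1, 0, 1, 0, 3, 0, 1, 0, 3, 0, 3, 0, 1, 0, 3, 0, 3, 0, 1, 0, 3, 0, 3],
    [0, 2],
    [1, 3],
    [2, 0],
    [3, 1],
    []]

/-- Their derivations. -/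
def relDerivs : List (List Step) :=
  [[([], 0, true)],
  [([], 1, true)],
  [([], 2, true)],
  [([0], 3, true)],
  [([0], 4, true)],
  [([2, 1, 2, 3, 2, 3, 2], 5, true)],
  [([3, 2, 1, 2, 1, 2, 3, 2, 1, 2, 3, 2, 3, 2, 1, 2, 3, 2, 3, 2, 1, 2, 3, 2, 3, 2], 6, true)],
  [([], 0, true)],
  [([], 1, true)],
  [([], 2, true)],
  [([], 3, true)],
  [([], 4, true)],
  [([], 5, true)],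
  [([], 6, true)],
  [],
  [],
  [],
  [],
  []]

/-- Subgroup words. -/
def subWords : List (List Nat) :=
  [[0, 1, 0, 3, 0, 3, 0, 1, 2, 1, 2, 1, 2, 3, 2],
    [0, 1, 0, 3, 0, 1, 0, 1, 2, 3, 2, 1, 2, 3, 2],
    [3, 0, 1, 2, 1],
    [0, 3, 0, 3, 0, 1, 2, 1, 2, 1, 2],
    [0, 3, 0, 1, 0, 3, 0, 3, 2, 3, 2, 1, 2],
    [1, 0, 1, 2, 3]]

/-- The certificate. -/
def step : Signed.Cert :=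
  ⟨relWords, subWords, [0, 1, 2, 3], tabF, tabC, tabZ, tabP, 570, 387, 24, 2⟩

end Cfsg.Lib.J4Pres.Lvl0
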